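import Mathlib
import Groth.Agent.Lib.Helper5.DerSchTor.Vanish
import Groth.Agent.Lib.Helper5.TensorAmp.TensorLE

/-!
# Cohomological bound for the tensor product of complexes of `O_X`-modules (helper5)
-/
set_option autoImplicit false
set_option linter.unusedSectionVars false
set_option linter.unusedVariables false
set_option linter.style.haveILetI false
universe u
open CategoryTheory CategoryTheory.Limits MonoidalCategory AlgebraicGeometry
attribute [local instance] HasDerivedCategory.standard

namespace Groth.Agent.Lib.Helper5.CohTen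

open Groth.Agent.Lib.Helper5.StalkTot Groth.Agent.Lib.Helper5.StalkAdj
open Groth.Agent.Lib.Helper5.KFlatStalk Groth.Agent.Lib.Helper5.TensorLE
open DTen _root_.Helper5.Gen

variable {X : Scheme.{u}}

/-- exactness passes to stalks -/
theorem exactAt_stalkCx (L : CochainComplex X.Modules ℤ) (n : ℤ) (h : L.ExactAt n) (x : X) :
    (stalkCx X x L).ExactAt n := by
  rw [HomologicalComplex.exactAt_iff] at h ⊢
  exact h.map (stalkSh X x)

/-- **the cohomology of `P ⊗ F` vanishes above `a + b`** when `P` is K-flat with cohomology
`≤ a` and `F` has cohomology `≤ b` -/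
theorem isZero_homology_tensorCx_of_isLE (P F : CochainComplex X.Modules ℤ) (hP : DCoh.IsKFlat P)
    (a b : ℤ) (hPa : ∀ i : ℤ, a < i → IsZero (P.homology i))
    (hFb : ∀ i : ℤ, b < i → IsZero (F.homology i)) (i : ℤ) (hi : a + b < i) :
    IsZero (((DCoh.tensorCx.obj P).obj F).homology i) := by
  refine (HomologicalComplex.exactAt_iff_isZero_homology _ i).1
    (exactAt_of_stalks _ i (fun x => ?_))
  refine HomologicalComplex.ExactAt.of_iso ?_ (stalkTotIso X x P F).symm
  rw [HomologicalComplex.exactAt_iff_isZero_homology]
  refine isZero_homology_tensor_of_isLE _ _ (isKFlat_stalkCx P hP x) a b (fun j hj => ?_)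
    (fun j hj => ?_) i hi
  · rw [← HomologicalComplex.exactAt_iff_isZero_homology]
    exact exactAt_stalkCx P j ((HomologicalComplex.exactAt_iff_isZero_homology _ j).2 (hPa j hj)) x
  · rw [← HomologicalComplex.exactAt_iff_isZero_homology]
    exact exactAt_stalkCx F j ((HomologicalComplex.exactAt_iff_isZero_homology _ j).2 (hFb j hj)) x

end Groth.Agent.Lib.Helper5.CohTen
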