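import Mathlib
import Groth.Agent.Lib.Helper5.QC.LTenQC
import Groth.Agent.Lib.Helper5.Perf.PCCohNoeth
import Groth.Agent.Lib.Helper5.LTen.SPTensor
import Groth.Agent.Lib.Helper5.DRing.PCAll
import Groth.Agent.Lib.Helper5.KFlat.Bdd

/-!
# `D^-_Coh` is stable under derived tensor products: the affine Noetherian case (helper5)
-/
set_option autoImplicit false
set_option linter.unusedSectionVars false
set_option linter.unusedVariables false
set_option linter.style.haveILetI false
universe u
open CategoryTheory CategoryTheory.Limits AlgebraicGeometry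
attribute [local instance] HasDerivedCategory.standard

namespace Groth.Agent.Lib.Helper5.CohTen

open Groth.Agent.Lib.Helper5.QC Groth.Agent.Lib.Helper5.LTenFlf Groth.Agent.Lib.Helper5.SPTensor
open Groth.Agent.Lib.Helper5.LocalCoh Groth.Agent.Lib.Helper5.PCCoh

section General

variable {X : Scheme.{u}}

/-- the terms of the tensor product of two bounded above complexes of finite locally free
modules are finite locally free -/
theorem isFinLocFree_tensorCx_X (K L : CochainComplex X.Modules ℤ) (a b : ℤ)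
    (hK : ∀ i : ℤ, a < i → IsZero (K.X i)) (hL : ∀ i : ℤ, b < i → IsZero (L.X i))
    (hKf : ∀ i : ℤ, FlatMod.IsFinLocFree (K.X i)) (hLf : ∀ i : ℤ, FlatMod.IsFinLocFree (L.X i))
    (n : ℤ) : FlatMod.IsFinLocFree (((DCoh.tensorCx.obj K).obj L).X n) := by
  let f : ((ComplexShape.π (ComplexShape.up ℤ) (ComplexShape.up ℤ)
      (ComplexShape.up ℤ)) ⁻¹' {n}) → X.Modules :=
    fun i => (DCoh.tensorBi.obj (K.X i.1.1)).obj (L.X i.1.2)
  have hsum : ∀ (i : (ComplexShape.π (ComplexShape.up ℤ) (ComplexShape.up ℤ)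
      (ComplexShape.up ℤ)) ⁻¹' {n}), i.1.1 + i.1.2 = n := fun i => i.2
  change FlatMod.IsFinLocFree (∐ f)
  refine isFinLocFree_sigma_of_finite f {i | n - b ≤ i.1.1 ∧ i.1.1 ≤ a} ?_ ?_ ?_
  · have hinj : Function.Injective (fun i : (ComplexShape.π (ComplexShape.up ℤ)
        (ComplexShape.up ℤ) (ComplexShape.up ℤ)) ⁻¹' {n} => i.1.1) := by
      intro i j hij
      have hi := hsum i
      have hj := hsum j
      apply Subtype.ext
      apply Prod.ext
      · exact hij
      · have : i.1.1 = j.1.1 := hij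
        omega
    exact Set.Finite.preimage (Set.injOn_of_injective hinj) (Set.finite_Icc (n - b) a)
  · intro i hi
    simp only [Set.mem_ofPred_eq, not_and, not_le] at hi
    have hs := hsum i
    by_cases h : n - b ≤ i.1.1
    · exact isZero_tensor_left _ _ (hK _ (hi h))
    · exact isZero_tensor_right _ _ (hL _ (by omega))
  · intro i
    exact isFinLocFree_tensor _ _ (hKf _) (hLf _)

/-- the cohomology sheaves of a complex of finite locally free modules on a locally Noetherian
scheme are coherent -/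
theorem isCoh_homology_of_finLocFree [IsLocallyNoetherian X] (K : CochainComplex X.Modules ℤ)
    (hK : ∀ i : ℤ, FlatMod.IsFinLocFree (K.X i)) (i : ℤ) : Coh.IsCoh (K.homology i) :=
  isCoh_homology (K.sc i) (isCoh_of_isFinLocFree _ (hK _)) (isCoh_of_isFinLocFree _ (hK _))
    (isCoh_of_isFinLocFree _ (hK _))

end General

section Affine

variable (R : CommRingCat.{u}) [IsNoetherianRing R]

/-- over a Noetherian ring, an object of `D^-_Coh(Spec R)` is represented by the tilde of a bounded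
above complex of finite free modules -/
theorem exists_finiteFree_rep (K : DCoh.D (Spec (CommRingCat.of R))) (hK : DCoh.IsCohD K) (a : ℤ)
    (ha : ∀ i : ℤ, a < i → IsZero (DCoh.HD K i)) :
    ∃ (G : CochainComplex (ModuleCat.{u} R) ℤ) (c : ℤ), DRing.VanishesAbove G c ∧
      DRing.TermwiseFiniteFree G ∧ Nonempty (DerivedCategory.Q.obj ((tCx R).obj G) ≅ K) := by
  have hKq : DCoh.IsQCohD K := fun i => (hK i).1
  haveI : IsNoetherianRing (CommRingCat.of R) := ‹_›
  obtain ⟨M, ⟨eM⟩⟩ := exists_tildeCx_iso R K hKq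
  let e0 : (DCoh.tildeD R).obj (DerivedCategory.Q.obj M) ≅ K :=
    (tilde.functor R).mapDerivedCategoryFactors.app M ≪≫ eM
  have hpc : ∀ m : ℤ, DRing.IsPseudoCoherent R m (DerivedCategory.Q.obj M) := fun m => by
    rw [← Groth.Agent.Lib.Helper5.TildePC.isPseudoCoherentD_tildeD_iff]
    exact Groth.Agent.Lib.Helper5.PCTri.isPC_of_iso e0.symm
      (isPC_of_isCoh_HD K hKq m (fun i _ => hK i) a ha)
  obtain ⟨G, c, hGv, hGf, ⟨eG⟩⟩ := (Groth.Agent.Helper5.PCBuild.s2066 _).1.1 hpc
  exact ⟨G, c, hGv, hGf,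
    ⟨((tilde.functor R).mapDerivedCategoryFactors.app G).symm ≪≫ (DCoh.tildeD R).mapIso eG ≪≫ e0⟩⟩

/-- **affine case**: the cohomology sheaves of `P ⊗ F` are coherent for `P` K-flat and
`P, F ∈ D^-_Coh` -/
theorem isCoh_HD_tensor_affine (P F : CochainComplex (Spec (CommRingCat.of R)).Modules ℤ)
    (hP : DCoh.IsKFlat P) (hPc : DCoh.IsCohD (DerivedCategory.Q.obj P)) (a : ℤ)
    (hPa : ∀ i : ℤ, a < i → IsZero (DCoh.HD (DerivedCategory.Q.obj P) i))
    (hFc : DCoh.IsCohD (DerivedCategory.Q.obj F)) (b : ℤ)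
    (hFb : ∀ i : ℤ, b < i → IsZero (DCoh.HD (DerivedCategory.Q.obj F) i)) (i : ℤ) :
    Coh.IsCoh (DCoh.HD (DerivedCategory.Q.obj ((DCoh.tensorCx.obj P).obj F)) i) := by
  obtain ⟨M, c, hMv, hMf, ⟨eP⟩⟩ := exists_finiteFree_rep R _ hPc a hPa
  obtain ⟨N, c', hNv, hNf, ⟨eF⟩⟩ := exists_finiteFree_rep R _ hFc b hFb
  have hMk : DRing.IsKFlat R M :=
    Groth.Agent.Lib.Helper5.KFlat.isKFlat_of_bounded_above M c hMv (fun n => by
      haveI := (hMf n).1
      haveI := (hMf n).2
      infer_instance)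
  have hM : DCoh.IsKFlat (X := Spec (CommRingCat.of R)) ((tCx R).obj M) :=
    Groth.Agent.Lib.Helper5.TildeStalk.isKFlat_tilde R M hMk
  haveI : DCoh.HasLTensorCx F := Groth.Agent.Lib.Helper5.LTenAll.hasLTensorCx F
  let e1 := (Groth.Agent.Lib.Helper5.LTenAll.ltensorObjIsoOfKFlat F P hP).symm
  let e2 := (DCoh.LTensorCx F).mapIso eP.symm
  let e3 := Groth.Agent.Lib.Helper5.LTenAll.ltensorObjIsoOfKFlat F _ hM
  let e4 := Groth.Agent.Lib.Helper5.LTenDer.mapQIso (DCoh.tensorCx.obj ((tCx R).obj M))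
    (fun φ hφ => Groth.Agent.Lib.Helper5.LTenDer.quasiIso_tensor_obj _ hM φ hφ) eF.symm
  let T := (DCoh.tensorCx.obj ((tCx R).obj M)).obj ((tCx R).obj N)
  have hT : Coh.IsCoh (T.homology i) := by
    apply isCoh_homology_of_finLocFree
    intro n
    refine isFinLocFree_tensorCx_X _ _ c c' (fun j hj => ?_) (fun j hj => ?_) (fun j => ?_)
      (fun j => ?_) n
    · exact Functor.map_isZero (tilde.functor R) (hMv j hj)
    · exact Functor.map_isZero (tilde.functor R) (hNv j hj)
    · haveI := (hMf j).1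
      haveI := (hMf j).2
      exact Groth.Agent.Lib.Helper5.ProjLocFree.isFinLocFree_tilde_of_projective R (M.X j)
    · haveI := (hNf j).1
      haveI := (hNf j).2
      exact Groth.Agent.Lib.Helper5.ProjLocFree.isFinLocFree_tilde_of_projective R (N.X j)
  exact isCoh_of_iso ((DerivedCategory.homologyFunctor _ i).mapIso (e1 ≪≫ e2 ≪≫ e3 ≪≫ e4).symm)
    (isCoh_of_iso ((DerivedCategory.homologyFunctorFactors _ i).app T).symm hT)

end Affine

end Groth.Agent.Lib.Helper5.CohTen
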