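import Mathlib
import Groth.Agent.Lib.Helper5.CohTen.Affine
import Groth.Agent.Lib.Helper5.CohTen.Bound
import Groth.Agent.Lib.Helper1.CohRestr
import Groth.Agent.Lib.Helper1.AffFin
import Groth.Agent.Lib.Helper1.FtLocal

/-!
# `D^-_Coh` of a locally Noetherian scheme is stable under derived tensor products (helper5)
-/
set_option autoImplicit false
set_option linter.unusedSectionVars false
set_option linter.unusedVariables false
set_option linter.style.haveILetI false
universe u
open CategoryTheory CategoryTheory.Limits AlgebraicGeometry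
attribute [local instance] HasDerivedCategory.standard

namespace Groth.Agent.Lib.Helper5.CohTen

open Groth.Agent.Lib.Helper5.QC Groth.Agent.Lib.Helper5.LocalCoh Groth.Agent.Helper1
open Groth.Agent.Lib.Helper5.RestrTen

variable {X : Scheme.{u}}

/-- the cohomology sheaves of `Q K` are the cohomology sheaves of `K` -/
noncomputable def hdQIso (K : CochainComplex X.Modules ℤ) (i : ℤ) :
    DCoh.HD (DerivedCategory.Q.obj K) i ≅ K.homology i :=
  (DerivedCategory.homologyFunctorFactors X.Modules i).app K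

/-- restriction to an open preserves `D_Coh` -/
theorem isCohD_resCx {U : Scheme.{u}} (a : U ⟶ X) [IsOpenImmersion a]
    (K : CochainComplex X.Modules ℤ) (hK : DCoh.IsCohD (DerivedCategory.Q.obj K)) :
    DCoh.IsCohD (DerivedCategory.Q.obj (resCx a K)) := fun i =>
  isCoh_of_iso ((restrictHomologyIso a K i).symm ≪≫ (hdQIso _ i).symm)
    (FinPush.isCoh_restrict a _ (isCoh_of_iso (hdQIso K i) (hK i)))

/-- restriction to an open preserves vanishing of cohomology sheaves -/
theorem isZero_HD_resCx {U : Scheme.{u}} (a : U ⟶ X) [IsOpenImmersion a]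
    (K : CochainComplex X.Modules ℤ) (i : ℤ) (h : IsZero (DCoh.HD (DerivedCategory.Q.obj K) i)) :
    IsZero (DCoh.HD (DerivedCategory.Q.obj (resCx a K)) i) :=
  IsZero.of_iso (Functor.map_isZero (Scheme.Modules.restrictFunctor a)
    (IsZero.of_iso h (hdQIso K i).symm)) (hdQIso _ i ≪≫ restrictHomologyIso a K i)

/-- `P ⊗ F ∈ D_Coh` for `P` K-flat with `P, F ∈ D^-_Coh` -/
theorem isCoh_homology_tensor_of_isKFlat [IsLocallyNoetherian X] (P F : CochainComplex X.Modules ℤ)
    (hP : DCoh.IsKFlat P) (hPc : DCoh.IsCohD (DerivedCategory.Q.obj P)) (a : ℤ)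
    (hPa : ∀ i : ℤ, a < i → IsZero (DCoh.HD (DerivedCategory.Q.obj P) i))
    (hFc : DCoh.IsCohD (DerivedCategory.Q.obj F)) (b : ℤ)
    (hFb : ∀ i : ℤ, b < i → IsZero (DCoh.HD (DerivedCategory.Q.obj F) i)) (i : ℤ) :
    Coh.IsCoh (((DCoh.tensorCx.obj P).obj F).homology i) := by
  have hq : (((DCoh.tensorCx.obj P).obj F).homology i).IsQuasicoherent :=
    (isQCohD_Q_iff _).1 (isQCohD_tensor_of_isKFlat P F hP (fun j => (hPc j).1)
      (fun j => (hFc j).1)) i
  haveI := hq
  refine ⟨hq, ?_⟩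
  refine FtLocal.isFiniteType_of_affine_charts _ (I := X.affineOpens)
    (fun V => Γ(X, V.1)) (fun V => V.2.fromSpec) ?_ ?_
  · apply le_antisymm le_top
    intro y _
    obtain ⟨_, ⟨W, hW, rfl⟩, hyW, -⟩ := X.isBasis_affineOpens.exists_subset_of_mem_open
      (Set.mem_univ y) isOpen_univ
    refine TopologicalSpace.Opens.mem_iSup.2 ⟨⟨W, hW⟩, ?_⟩
    rw [IsAffineOpen.opensRange_fromSpec]
    exact hyW
  · rintro ⟨V, hV⟩
    haveI : IsNoetherianRing Γ(X, V) := IsLocallyNoetherian.component_noetherian ⟨V, hV⟩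
    have h1 := isCoh_HD_tensor_affine Γ(X, V) (resCx hV.fromSpec P) (resCx hV.fromSpec F)
      (Groth.Agent.Lib.Helper5.PerfTensor.isKFlat_restrict hV.fromSpec P hP)
      (isCohD_resCx hV.fromSpec P hPc) a (fun j hj => isZero_HD_resCx hV.fromSpec P j (hPa j hj))
      (isCohD_resCx hV.fromSpec F hFc) b (fun j hj => isZero_HD_resCx hV.fromSpec F j (hFb j hj)) i
    have e : ((DCoh.tensorCx.obj (resCx hV.fromSpec P)).obj (resCx hV.fromSpec F)).homology i ≅
        (((DCoh.tensorCx.obj P).obj F).homology i).restrict hV.fromSpec :=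
      (HomologicalComplex.homologyFunctor _ _ i).mapIso (restrictTotIso hV.fromSpec P F).symm ≪≫
          restrictHomologyIso hV.fromSpec _ i
    have h2 : Coh.IsCoh ((((DCoh.tensorCx.obj P).obj F).homology i).restrict hV.fromSpec) :=
      isCoh_of_iso ((hdQIso _ i) ≪≫ e) h1
    exact AffFin.finite_Γ_of_isFiniteType _ h2.1 h2.2

/-- **`L ⊗^L E ∈ D^-_Coh` for `L, E ∈ D^-_Coh`** on a locally Noetherian scheme -/
theorem isCohD_LTensorCx [IsLocallyNoetherian X] (E : CochainComplex X.Modules ℤ)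
    [DCoh.HasLTensorCx E] (L : DCoh.D X) (hL : DCoh.IsCohD L) (a : ℤ)
    (hLa : ∀ i : ℤ, a < i → IsZero (DCoh.HD L i)) (hE : DCoh.IsCohD (DCoh.toD X E)) (b : ℤ)
    (hEb : ∀ i : ℤ, b < i → IsZero (DCoh.HD (DCoh.toD X E) i)) :
    DCoh.IsCohD ((DCoh.LTensorCx E).obj L) ∧
      ∀ i : ℤ, a + b < i → IsZero (DCoh.HD ((DCoh.LTensorCx E).obj L) i) := by
  obtain ⟨P, hP, ⟨eP⟩, ⟨eT⟩⟩ := Groth.Agent.Lib.Helper5.LTenAll.exists_ltensor_iso E L
  have hPc : DCoh.IsCohD (DerivedCategory.Q.obj P) := fun i =>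
    isCoh_of_iso ((DerivedCategory.homologyFunctor _ i).mapIso eP.symm) (hL i)
  have hPa : ∀ i : ℤ, a < i → IsZero (DCoh.HD (DerivedCategory.Q.obj P) i) := fun i hi =>
    IsZero.of_iso (hLa i hi) ((DerivedCategory.homologyFunctor _ i).mapIso eP)
  refine ⟨fun i => ?_, fun i hi => ?_⟩
  · exact isCoh_of_iso ((hdQIso _ i).symm ≪≫ (DerivedCategory.homologyFunctor _ i).mapIso eT.symm)
      (isCoh_homology_tensor_of_isKFlat P E hP hPc a hPa hE b hEb i)
  · refine IsZero.of_iso ?_ ((DerivedCategory.homologyFunctor _ i).mapIso eT ≪≫ hdQIso _ i)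
    exact isZero_homology_tensorCx_of_isLE P E hP a b
      (fun j hj => IsZero.of_iso (hPa j hj) (hdQIso P j).symm)
      (fun j hj => IsZero.of_iso (hEb j hj) (hdQIso E j).symm) i hi

end Groth.Agent.Lib.Helper5.CohTen
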