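import Mathlib
import Groth.Agent.Lib.Helper5.CohTen.Main
import Groth.Agent.Lib.Helper5.TensorAmp.ExtLE
import Groth.Agent.Lib.Helper5.Perf.LpullPC
import Groth.Agent.Lib.Helper5.Perf.PCSingle
import Groth.Agent.Lib.Helper5.ProperPush.CohExt

/-!
# Right t-exactness of `Lf^*`, and `Lf^*` of a coherent module (helper5)
-/
set_option autoImplicit false
set_option linter.unusedSectionVars false
set_option linter.unusedVariables false
set_option linter.style.haveILetI false
universe u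
open CategoryTheory CategoryTheory.Limits MonoidalCategory AlgebraicGeometry
attribute [local instance] HasDerivedCategory.standard

namespace Groth.Agent.Lib.Helper5.CohTen

open Groth.Agent.Lib.Helper5.StalkTot Groth.Agent.Lib.Helper5.StalkAdj
open Groth.Agent.Lib.Helper5.KFlatStalk Groth.Agent.Lib.Helper5.TensorLE
open Groth.Agent.Lib.Helper5.KFlatPull Groth.Agent.Lib.Helper5.LpullLib
open Groth.Agent.Lib.Helper5.KFlatSiteQ Groth.Agent.Lib.Helper5.QC
open Groth.Agent.Lib.Helper5.LocalCoh Groth.Agent.Lib.Helper5.PCCoh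
open DTen _root_.Helper5.Gen

variable {X Y : Scheme.{u}}

/-- **`Lf^*` is right t-exact** -/
theorem isZero_HD_Lpull_of_isLE (f : X ⟶ Y) [DCoh.HasLpull f] (K : DCoh.D Y) (b : ℤ)
    (hK : ∀ i : ℤ, b < i → IsZero (DCoh.HD K i)) (i : ℤ) (hi : b < i) :
    IsZero (DCoh.HD ((DCoh.Lpull f).obj K) i) := by
  let K₀ : CochainComplex Y.Modules ℤ := DerivedCategory.Q.objPreimage K
  let e : DerivedCategory.Q.obj K₀ ≅ K := DerivedCategory.Q.objObjPreimageIso K
  obtain ⟨P, p, hP1, hP2, hp, _⟩ : ∃ (P : CochainComplex Y.Modules ℤ) (p : P ⟶ K₀),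
      DCoh.IsKFlat P ∧ (∀ n : ℤ, ModSite.IsFlat (O := Y.sheaf) (P.X n)) ∧ QuasiIso p ∧
        ∀ n : ℤ, Epi (p.f n) := exists_isKFlat_resolution (O := Y.sheaf) K₀
  have hKFT : KFT P := ⟨hP1, hP2⟩
  haveI : QuasiIso p := hp
  let eP : DCoh.toD Y P ≅ K := asIso (DerivedCategory.Q.map p) ≪≫ e
  let fP := ((Scheme.Modules.pullback f).mapHomologicalComplex (ComplexShape.up ℤ)).obj P
  let e1 : (DCoh.Lpull f).obj K ≅ DCoh.toD X fP :=
    (DCoh.Lpull f).mapIso eP.symm ≪≫ lpullObjIso f P hKFT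
  refine IsZero.of_iso ?_ ((DerivedCategory.homologyFunctor X.Modules i).mapIso e1 ≪≫ hdQIso fP i)
  refine (HomologicalComplex.exactAt_iff_isZero_homology fP i).1
    (exactAt_of_stalks fP i (fun x => ?_))
  refine HomologicalComplex.ExactAt.of_iso ?_ (stalkCxPullbackIso f P x).symm
  rw [HomologicalComplex.exactAt_iff_isZero_homology]
  refine isZero_homology_extCx_of_isLE (f.stalkMap x).hom _ (isKFlat_stalkCx P hP1 (f.base x)) b
    (fun j hj => ?_) i hi
  rw [← HomologicalComplex.exactAt_iff_isZero_homology]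
  refine exactAt_stalkCx P j ((HomologicalComplex.exactAt_iff_isZero_homology _ j).2 ?_) (f.base x)
  exact IsZero.of_iso (hK j hj)
    ((hdQIso P j).symm ≪≫ (DerivedCategory.homologyFunctor Y.Modules j).mapIso eP)

/-- the cohomology sheaves of a coherent module placed in degree `0` are coherent -/
theorem isCoh_HD_inD (F : X.Modules) (hF : Coh.IsCoh F) (i : ℤ) :
    Coh.IsCoh (DCoh.HD (DCoh.inD X F) i) := by
  by_cases hi : i = 0
  · subst hi
    exact isCoh_of_iso (Groth.Agent.Lib.Helper5.PCSingle.hdInDIso F).symm hF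
  · exact Groth.Agent.Lib.Helper5.CohExt.isCoh_of_isZero _
      (Groth.Agent.Lib.Helper5.PCSingle.isZero_HD_inD F i hi)

/-- `Lp^* F ∈ D^{≤ 0}_Coh` for a coherent module `F` on a locally Noetherian scheme and a morphism
`p` from a locally Noetherian scheme -/
theorem isCohD_Lpull_inD [IsLocallyNoetherian X] [IsLocallyNoetherian Y] (p : X ⟶ Y)
    [DCoh.HasLpull p] (F : Y.Modules) (hF : Coh.IsCoh F) :
    DCoh.IsCohD ((DCoh.Lpull p).obj (DCoh.inD Y F)) ∧
      ∀ i : ℤ, 0 < i → IsZero (DCoh.HD ((DCoh.Lpull p).obj (DCoh.inD Y F)) i) := by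
  haveI := hF.1
  have hq : DCoh.IsQCohD (DCoh.inD Y F) := Groth.Agent.Lib.Helper5.RpushClassic.isQCohD_inD F
  have hz : ∀ i : ℤ, 0 < i → IsZero (DCoh.HD (DCoh.inD Y F) i) := fun i hi =>
    Groth.Agent.Lib.Helper5.PCSingle.isZero_HD_inD F i (by omega)
  have hpc : ∀ m : ℤ, DCoh.IsPseudoCoherentD m (DCoh.inD Y F) := fun m =>
    isPC_of_isCoh_HD _ hq m (fun i _ => isCoh_HD_inD F hF i) 0 hz
  have hq' : DCoh.IsQCohD ((DCoh.Lpull p).obj (DCoh.inD Y F)) := isQCohD_Lpull p _ hq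
  refine ⟨fun i => ?_, fun i hi => isZero_HD_Lpull_of_isLE p _ 0 hz i hi⟩
  exact isCoh_HD_of_isPC _ hq' i
    (Groth.Agent.Lib.Helper5.LpullLib.isPseudoCoherentD_Lpull p i _ (hpc i)) i le_rfl

end Groth.Agent.Lib.Helper5.CohTen
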