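import Mathlib
import Groth.Prelude.Def_HTor
import Groth.Agent.Lib.Helper5.CohTen.LpullLE
import Groth.Agent.Lib.Helper5.RelPC.FlatTerms

/-!
# Coherence of the Tor sheaves of two coherent modules on a fibre product (helper5)
-/
set_option autoImplicit false
set_option linter.unusedSectionVars false
set_option linter.unusedVariables false
set_option linter.style.haveILetI false
universe u
open CategoryTheory CategoryTheory.Limits MonoidalCategory AlgebraicGeometry
attribute [local instance] HasDerivedCategory.standard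

namespace Groth.Agent.Lib.Helper5.CohTen

open Groth.Agent.Lib.Helper5.LpullLib Groth.Agent.Lib.Helper5.QC
open Groth.Agent.Lib.Helper5.LocalCoh Groth.Agent.Lib.Helper5.PCCoh
open Groth.Agent.Lib.Helper5.FlatTerms

variable {W Y : Scheme.{u}}

/-- the (underived) pullback of a coherent module along a flat morphism from a locally Noetherian
scheme, placed in degree `0`, lies in `D^{≤ 0}_Coh` -/
theorem isCohD_pullCx_single [IsLocallyNoetherian W] (q : W ⟶ Y) [Flat q] (G : Y.Modules)
    (hG : Coh.IsCoh G) :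
    DCoh.IsCohD (DCoh.toD W ((HTor.pullCx q).obj
      ((HomologicalComplex.single Y.Modules (ComplexShape.up ℤ) 0).obj G))) ∧
    ∀ i : ℤ, 0 < i → IsZero (DCoh.HD (DCoh.toD W ((HTor.pullCx q).obj
      ((HomologicalComplex.single Y.Modules (ComplexShape.up ℤ) 0).obj G))) i) := by
  haveI : DCoh.HasLpull q := hasLpull q
  haveI := hG.1
  let E : CochainComplex W.Modules ℤ := (HTor.pullCx q).obj
    ((HomologicalComplex.single Y.Modules (ComplexShape.up ℤ) 0).obj G)
  obtain ⟨e⟩ := nonempty_lpullObjIso_of_flat q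
    ((HomologicalComplex.single Y.Modules (ComplexShape.up ℤ) 0).obj G)
  let K : DCoh.D W := (DCoh.Lpull q).obj (DCoh.inD Y G)
  let eK : K ≅ DCoh.toD W E := (DCoh.Lpull q).mapIso (toDSingleIso G).symm ≪≫ e
  have hz : ∀ i : ℤ, i ≠ 0 → IsZero (DCoh.HD (DCoh.toD W E) i) := fun i hi => by
    refine IsZero.of_iso ?_ (hdQIso E i)
    rw [← HomologicalComplex.exactAt_iff_isZero_homology]
    apply HomologicalComplex.ExactAt.of_isZero
    exact Functor.map_isZero (Scheme.Modules.pullback q)
      (HomologicalComplex.isZero_single_obj_X (ComplexShape.up ℤ) 0 G i hi)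
  have hq : DCoh.IsQCohD (DCoh.inD Y G) := Groth.Agent.Lib.Helper5.RpushClassic.isQCohD_inD G
  have hq' : DCoh.IsQCohD K := isQCohD_Lpull q _ hq
  have hpc : DCoh.IsPseudoCoherentD 0 K :=
    isPseudoCoherentD_Lpull q 0 _ (Groth.Agent.Lib.Helper5.PCSingle.isPC_of_isFT G hG.2)
  refine ⟨fun i => ?_, fun i hi => hz i (by omega)⟩
  by_cases hi : 0 ≤ i
  · exact isCoh_of_iso ((DerivedCategory.homologyFunctor _ i).mapIso eK)
      (isCoh_HD_of_isPC K hq' 0 hpc i hi)
  · exact Groth.Agent.Lib.Helper5.CohExt.isCoh_of_isZero _ (hz i (by omega))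

/-- **coherence of the Tor sheaves** `Tor_n^S(F, G)` on `X ×_S Y` -/
theorem isCoh_HD_tor (X Y S : Scheme.{u}) (f : X ⟶ S) (g : Y ⟶ S) [Flat f] [IsLocallyNoetherian X]
    [IsLocallyNoetherian (pullback f g)] (F : X.Modules) (G : Y.Modules) (hF : Coh.IsCoh F)
    (hG : Coh.IsCoh G) [DCoh.HasLpull (pullback.fst f g)]
    [DCoh.HasLTensorCx ((HTor.pullCx (pullback.snd f g)).obj
      ((HomologicalComplex.single Y.Modules (ComplexShape.up ℤ) 0).obj G))] (n : ℤ) :
    Coh.IsCoh (DCoh.HD ((DCoh.LTensorCx ((HTor.pullCx (pullback.snd f g)).obj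
      ((HomologicalComplex.single Y.Modules (ComplexShape.up ℤ) 0).obj G))).obj
        ((DCoh.Lpull (pullback.fst f g)).obj (DCoh.inD X F))) n) := by
  haveI : Flat (pullback.snd f g) := inferInstance
  obtain ⟨h1, h2⟩ := isCohD_Lpull_inD (pullback.fst f g) F hF
  obtain ⟨h3, h4⟩ := isCohD_pullCx_single (pullback.snd f g) G hG
  exact (isCohD_LTensorCx _ _ h1 0 h2 h3 0 h4).1 n

end Groth.Agent.Lib.Helper5.CohTen
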