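import Mathlib
import Groth.Agent.Lib.Helper5.CohTen.TorCoh

/-!
# `D^-_Coh` and pullbacks; coherence of the derived tensor product of two bounded above complexes
on a fibre product (helper5)
-/
set_option autoImplicit false
set_option linter.unusedSectionVars false
set_option linter.unusedVariables false
set_option linter.style.haveILetI false
universe u
open CategoryTheory CategoryTheory.Limits MonoidalCategory AlgebraicGeometry
attribute [local instance] HasDerivedCategory.standard

namespace Groth.Agent.Lib.Helper5.CohTen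

open Groth.Agent.Lib.Helper5.LpullLib Groth.Agent.Lib.Helper5.QC
open Groth.Agent.Lib.Helper5.LocalCoh Groth.Agent.Lib.Helper5.PCCoh
open Groth.Agent.Lib.Helper5.FlatTerms

variable {W Y : Scheme.{u}}

/-- `Lp^*` preserves `D^-_Coh` for a morphism of locally Noetherian schemes -/
theorem isCohD_Lpull_of_isCohD [IsLocallyNoetherian W] [IsLocallyNoetherian Y] (p : W ⟶ Y)
    [DCoh.HasLpull p] (K : DCoh.D Y) (hK : DCoh.IsCohD K) (b : ℤ)
    (hb : ∀ i : ℤ, b < i → IsZero (DCoh.HD K i)) :
    DCoh.IsCohD ((DCoh.Lpull p).obj K) ∧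
      ∀ i : ℤ, b < i → IsZero (DCoh.HD ((DCoh.Lpull p).obj K) i) := by
  have hq : DCoh.IsQCohD K := fun i => (hK i).1
  have hpc : ∀ m : ℤ, DCoh.IsPseudoCoherentD m K := fun m =>
    isPC_of_isCoh_HD _ hq m (fun i _ => hK i) b hb
  have hq' : DCoh.IsQCohD ((DCoh.Lpull p).obj K) := isQCohD_Lpull p _ hq
  refine ⟨fun i => ?_, fun i hi => isZero_HD_Lpull_of_isLE p _ b hb i hi⟩
  exact isCoh_HD_of_isPC _ hq' i (isPseudoCoherentD_Lpull p i _ (hpc i)) i le_rfl

/-- the pullback of a coherent module along a flat morphism from a locally Noetherian scheme is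
coherent -/
theorem isCoh_pullback_of_flat [IsLocallyNoetherian W] (q : W ⟶ Y) [Flat q] (G : Y.Modules)
    (hG : Coh.IsCoh G) : Coh.IsCoh ((Scheme.Modules.pullback q).obj G) := by
  let S₀ := (HomologicalComplex.single Y.Modules (ComplexShape.up ℤ) 0).obj G
  let E : CochainComplex W.Modules ℤ := (HTor.pullCx q).obj S₀
  have h := (isCohD_pullCx_single q G hG).1 0
  have e1 : E ≅ (HomologicalComplex.single W.Modules (ComplexShape.up ℤ) 0).obj
      ((Scheme.Modules.pullback q).obj G) :=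
    (HomologicalComplex.singleMapHomologicalComplex (Scheme.Modules.pullback q)
      (ComplexShape.up ℤ) 0).app G
  exact isCoh_of_iso (hdQIso E 0 ≪≫ (HomologicalComplex.homologyFunctor _ _ 0).mapIso e1 ≪≫
    HomologicalComplex.singleObjHomologySelfIso (ComplexShape.up ℤ) 0 _) h

/-- flat pullback of complexes preserves `D_Coh` (target locally Noetherian) -/
theorem isCohD_pullCx_of_flat [IsLocallyNoetherian W] (q : W ⟶ Y) [Flat q]
    (Q : CochainComplex Y.Modules ℤ) (hQ : DCoh.IsCohD (DCoh.toD Y Q)) :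
    DCoh.IsCohD (DCoh.toD W ((HTor.pullCx q).obj Q)) := fun i => by
  have e : ((HTor.pullCx q).obj Q).homology i ≅ (Scheme.Modules.pullback q).obj (Q.homology i) :=
    (Q.sc i).mapHomologyIso (Scheme.Modules.pullback q)
  exact isCoh_of_iso ((hdQIso _ i ≪≫ e).symm)
    (isCoh_pullback_of_flat q _ (isCoh_of_iso (hdQIso Q i) (hQ i)))

/-- termwise bounded above complexes have bounded above cohomology -/
theorem isZero_HD_of_isZero_X {Z : Scheme.{u}} (K : CochainComplex Z.Modules ℤ) (i : ℤ)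
    (h : IsZero (K.X i)) : IsZero (DCoh.HD (DCoh.toD Z K) i) := by
  refine IsZero.of_iso ?_ (hdQIso K i)
  rw [← HomologicalComplex.exactAt_iff_isZero_homology]
  exact HomologicalComplex.ExactAt.of_isZero h

/-- **coherence of `Lpr₁^* P ⊗^L pr₂^* Q`** on a fibre product -/
theorem isCohD_extTensor (X Y S : Scheme.{u}) (f : X ⟶ S) (g : Y ⟶ S) [Flat f]
    [IsLocallyNoetherian X] [IsLocallyNoetherian (pullback f g)] (P : CochainComplex X.Modules ℤ)
    (Q : CochainComplex Y.Modules ℤ) (bP : ∃ b : ℤ, ∀ i : ℤ, b < i → IsZero (P.X i))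
    (bQ : ∃ b : ℤ, ∀ i : ℤ, b < i → IsZero (Q.X i)) (hP : DCoh.IsCohD (DCoh.toD X P))
    (hQ : DCoh.IsCohD (DCoh.toD Y Q)) [DCoh.HasLpull (pullback.fst f g)]
    [DCoh.HasLTensorCx ((HTor.pullCx (pullback.snd f g)).obj Q)] :
    DCoh.IsCohD ((DCoh.LTensorCx ((HTor.pullCx (pullback.snd f g)).obj Q)).obj
      ((DCoh.Lpull (pullback.fst f g)).obj (DCoh.toD X P))) := by
  haveI : Flat (pullback.snd f g) := inferInstance
  obtain ⟨a, ha⟩ := bP
  obtain ⟨b, hb⟩ := bQ
  obtain ⟨h1, h2⟩ := isCohD_Lpull_of_isCohD (pullback.fst f g) (DCoh.toD X P) hP a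
    (fun i hi => isZero_HD_of_isZero_X P i (ha i hi))
  have h3 := isCohD_pullCx_of_flat (pullback.snd f g) Q hQ
  have h4 : ∀ i : ℤ, b < i → IsZero (DCoh.HD (DCoh.toD (pullback f g)
      ((HTor.pullCx (pullback.snd f g)).obj Q)) i) := fun i hi =>
    isZero_HD_of_isZero_X _ i (Functor.map_isZero (Scheme.Modules.pullback (pullback.snd f g))
      (hb i hi))
  exact (isCohD_LTensorCx _ _ h1 a h2 h3 b h4).1

end Groth.Agent.Lib.Helper5.CohTen
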